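import Groth.Agent.Pic13.H496.Mum
import Groth.Agent.Pic13.H951.Present
import Groth.Agent.S2426
import Groth.Agent.Ega3B.ProjFrame
import Groth.Agent.Ega3B.PullTensor
import Groth.Agent.Flat2E.FormalLift418
import Groth.Agent.Krr.H502.KosZero

/-!
# Over a finite field there are finitely many closed subschemes of `P^N` with a given Hilbert polynomial

`finite_closed`: up to isomorphism over the finite field `k` there are only finitely many `k`-schemes `X` admitting a
closed immersion `f : X ⟶ P^N_k` with `χ(X, f^*O(1)^{⊗ t}) = P(t)` for all natural numbers `t`.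
-/

set_option autoImplicit false
universe u
open CategoryTheory CategoryTheory.Limits AlgebraicGeometry Opposite TopologicalSpace

namespace K816.FinClosed

open Groth.Agent Groth.Agent.CurvesB Groth.Agent.Sga67.SerreVB

section HomFinite

variable {k : Type u} [Field k] [Finite k] {X : Scheme.{u}} [X.Over (Spec (CommRingCat.of k))]

theorem finite_sections {M : X.Modules} (hf : Module.Finite k (Coh.HH X M 0)) : Finite Γ(M, ⊤) := by
  letI := HZero.moduleΓ k M
  have : Finite (Coh.HH X M 0) := Module.finite_of_finite k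
  exact Finite.of_equiv _ (HZero.equivLin k M).toEquiv

theorem finite_hom_free {M : X.Modules} (hf : Module.Finite k (Coh.HH X M 0)) (a : ℕ) :
    Finite (FlatMod.freeMod X a ⟶ M) := by
  have := finite_sections (k := k) hf
  exact Finite.of_injective
    (fun (φ : FlatMod.freeMod X a ⟶ M) (i : Fin a) => Dcoh.FinLocFree.freeSec φ i)
    (fun φ ψ h => Dcoh.FinLocFree.hom_ext_free (fun i => congrFun h i))

end HomFinite

section Ker

variable {X Y Z : Scheme.{u}}

theorem ker_le_of_fac (f : X ⟶ Y) [IsClosedImmersion f] (g : Z ⟶ Y) [IsClosedImmersion g]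
    (d : (Scheme.Modules.pushforward f).obj (Coh.structureModule X) ⟶
      (Scheme.Modules.pushforward g).obj (Coh.structureModule Z))
    (h : ClSub.unitToPush f ≫ d = ClSub.unitToPush g) : f.ker ≤ g.ker := by
  intro U x hx
  rw [Scheme.Hom.ker_apply, RingHom.mem_ker] at hx ⊢
  have h1 : (ClSub.unitToPush f).app U.1 x = 0 := hx
  have h2 : (ClSub.unitToPush g).app U.1 x = 0 := by
    rw [← h]
    change d.app U.1 ((ClSub.unitToPush f).app U.1 x) = 0
    rw [h1, map_zero]
  exact h2

end Ker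

section Proj

variable (k : Type u) [Field k] (N : ℕ)

/-- `O_P ⟶ f_* O_X`, from the free module of rank one. -/
noncomputable def uMap {X : Scheme.{u}} (f : X ⟶ CohB1.ProjSpace N k) :
    FlatMod.freeMod (CohB1.ProjSpace N k) 1 ⟶
      (Scheme.Modules.pushforward f).obj (Coh.structureModule X) :=
  (coproductUniqueIso (fun _ : Fin 1 => Coh.structureModule (CohB1.ProjSpace N k))).hom ≫
    ClSub.unitToPush f

instance epi_uMap {X : Scheme.{u}} (f : X ⟶ CohB1.ProjSpace N k) [IsClosedImmersion f] :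
    Epi (uMap k N f) := by
  have := Krr.H502.KosZero.epi_unitToPush f
  exact epi_comp' inferInstance this

/-- If the twisted ideal of `X` is killed in `O_Z` then the ideal of `X` is contained in the ideal of `Z`. -/
theorem ker_le_of_tw {X Z : Scheme.{u}} (f : X ⟶ CohB1.ProjSpace N k) [IsClosedImmersion f]
    (g : Z ⟶ CohB1.ProjSpace N k) [IsClosedImmersion g] (m : ℤ)
    (h : (tw N k m).map (kernel.ι (uMap k N f) ≫ uMap k N g) = 0) : f.ker ≤ g.ker := by
  obtain ⟨e₀⟩ := nonempty_twist_mul N k (-m) m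
  obtain ⟨e₁⟩ := nonempty_twist_zero N k
  rw [neg_add_cancel] at e₀
  have hf := Flat2E.FormalLift418.faithful_tw (e₀ ≪≫ e₁)
  have h0 : kernel.ι (uMap k N f) ≫ uMap k N g = 0 := by
    apply (DCoh.tensorRightMod (Twist.twistProjSpace N k m)).map_injective
    rw [Functor.map_zero]
    exact (PerfB.TensExact.tensorRightMod_map_eq _ _).trans h
  have h1 : uMap k N f ≫ Abelian.epiDesc (uMap k N f) (uMap k N g) h0 = uMap k N g :=
    Abelian.comp_epiDesc _ _ _
  refine ker_le_of_fac f g (Abelian.epiDesc (uMap k N f) (uMap k N g) h0) ?_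
  have h2 : (coproductUniqueIso (fun _ : Fin 1 => Coh.structureModule (CohB1.ProjSpace N k))).hom ≫
      ClSub.unitToPush f ≫ Abelian.epiDesc (uMap k N f) (uMap k N g) h0 =
      (coproductUniqueIso (fun _ : Fin 1 => Coh.structureModule (CohB1.ProjSpace N k))).hom ≫
        ClSub.unitToPush g := (Category.assoc _ _ _).symm.trans h1
  exact (cancel_epi _).1 h2

section Chi

open Pic13.H496.Mum VarietyB.EulerBinom

variable {X : Scheme.{u}} [X.Over (Spec (CommRingCat.of k))] (f : X ⟶ CohB1.ProjSpace N k) [IsClosedImmersion f]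

omit [X.Over (Spec (CommRingCat.of k))] in
theorem nonempty_pow (t : ℕ) : Nonempty ((Scheme.Modules.pullback f).obj (Twist.twistProjSpace N k (t : ℤ)) ≅
    CohB1.tensorPow ((Scheme.Modules.pullback f).obj (Twist.twistProjSpace N k 1)) t) := by
  obtain ⟨e⟩ := Ega3B.ProjFrame.nonempty_twistProjSpace_iso (r := N) k t
  obtain ⟨e'⟩ := Ega3B.PullTensor.nonempty_pullPowIso f (isInvertible_twist N k 1) t
  exact ⟨(Scheme.Modules.pullback f).mapIso e ≪≫ e'⟩

omit [X.Over (Spec (CommRingCat.of k))] in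
theorem isCoh_twistOn (d : ℤ) : Coh.IsCoh (Pic13.twistOn k f (Coh.structureModule X) d) :=
  Fga.TwistCoh.isCoh_tensor (PerfA.CohSerre.isCoh_of_isFinLocFree Dcoh.ResFree.isFinLocFree_unit)
    (Fdesc.LocGen.isInvertible_pullback f (isInvertible_twist N k d))

/-- The Euler characteristics of all twists of `f_* O_X` are given by the Hilbert polynomial. -/
theorem euler_push_twist (hf : f ≫ CohB1.ProjSpace.toSpec N k = X ↘ Spec (CommRingCat.of k)) (P : Polynomial ℚ)
    (hP : ∀ t : ℕ, (Curv2.euler k X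
      (CohB1.tensorPow ((Scheme.Modules.pullback f).obj (Twist.twistProjSpace N k 1)) t) : ℚ) = P.eval (t : ℚ))
    (d : ℤ) :
    (Curv2.euler k (CohB1.ProjSpace N k) (CohB1.tensorMod
      ((Scheme.Modules.pushforward f).obj (Coh.structureModule X)) (Twist.twistProjSpace N k d)) : ℚ) =
        P.eval (d : ℚ) := by
  have hOZ : Coh.IsCoh (Coh.structureModule X) :=
    PerfA.CohSerre.isCoh_of_isFinLocFree Dcoh.ResFree.isFinLocFree_unit
  have hvan : ∀ M : X.Modules, Coh.IsCoh M → ∀ j : ℕ, N + 1 ≤ j → Subsingleton (Coh.HH X M j) := by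
    intro M hM j hj
    obtain ⟨e⟩ := VarietyB.HHPush.exists_linearEquiv f k hf M hM.1 j
    have h1 : Coh.IsQCoh ((Coh.push f).obj M) := (Groth.Agent.S0019.result f M hM).1
    have h2 := Groth.Agent.S0022.result N k ((Coh.push f).obj M) j (by omega)
    exact e.toEquiv.subsingleton_congr.mp h2
  have key : ∀ M : X.Modules, Coh.IsCoh M → ((Finset.range (N + 1)).sum fun j => (-1 : ℚ) ^ j *
      ((Module.length k (Coh.HH X M j)).toNat : ℚ)) = (Curv2.euler k X M : ℚ) := by
    intro M hM
    rw [VarietyA.EulerAdd.euler_eq_sum k M (N + 1) (hvan M hM)]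
    push_cast
    refine Finset.sum_congr rfl fun j _ => ?_
    congr 2
    rw [Module.length_eq_rank]
    rfl
  obtain ⟨φ, hφ⟩ := Groth.Agent.S2426.result k N X f hf _ hOZ
  have hφ' : ∀ n : ℤ, (Curv2.euler k X (Pic13.twistOn k f (Coh.structureModule X) n) : ℚ) = φ.eval (n : ℚ) :=
    fun n => (key _ (isCoh_twistOn k N f n)).symm.trans (hφ n)
  have hφP : φ = P := by
    refine Polynomial.eq_of_infinite_eval_eq _ _ ?_
    refine Set.Infinite.mono (s := Set.range (fun t : ℕ => (t : ℚ))) ?_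
      (Set.infinite_range_of_injective Nat.cast_injective)
    rintro _ ⟨t, rfl⟩
    have h1 := hφ' (t : ℤ)
    obtain ⟨e⟩ := nonempty_pow k N f t
    have h2 : Curv2.euler k X (Pic13.twistOn k f (Coh.structureModule X) t) = Curv2.euler k X
      (CohB1.tensorPow ((Scheme.Modules.pullback f).obj (Twist.twistProjSpace N k 1)) t) :=
      VarietyA.EulerAdd.euler_congr k (Ega2.Tens.lunit _ ≪≫ e)
    rw [h2, hP t] at h1
    simpa using h1.symm
  rw [← hφP, ← hφ' d, euler_iso k N (pushTwist f _ d)]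
  exact congrArg _ (VarietyB.HHPush.euler_push f k hf _ (isCoh_twistOn k N f d).1)

end Chi

section Pres

open Pic13.H951.Present Groth.Agent.Sga67

variable {X : Scheme.{u}} (f : X ⟶ CohB1.ProjSpace N k) [IsClosedImmersion f]

/-- The number of generators. -/
noncomputable def rk (m : ℤ) : ℕ := Module.finrank k (Coh.HH (CohB1.ProjSpace N k)
    (Fga.MumReg.tw (FlatMod.freeMod (CohB1.ProjSpace N k) 1) m) 0)

theorem isCoh_push : Coh.IsCoh ((Scheme.Modules.pushforward f).obj (Coh.structureModule X)) :=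
  Groth.Agent.S0019.result f _ (PerfA.CohSerre.isCoh_of_isFinLocFree Dcoh.ResFree.isFinLocFree_unit)

theorem exists_epi_free (m : ℤ) (hreg : Curv2.IsMRegular k N (kernel (uMap k N f)) m) :
    ∃ q : FlatMod.freeMod (CohB1.ProjSpace N k) (rk k N m) ⟶ (tw N k m).obj (kernel (uMap k N f)), Epi q := by
  have hproper : IsProper (CohB1.ProjSpace N k ↘ Spec (CommRingCat.of k)) :=
    VarietyB.EulerBinom.isProper_over k N
  have hLN : IsLocallyNoetherian (CohB1.ProjSpace N k) :=
    LocallyOfFiniteType.isLocallyNoetherian (CohB1.ProjSpace N k ↘ (Spec (CommRingCat.of k)))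
  have hfree := VarietyB.EulerBinom.isCoh_free k N 1
  have hK : Coh.IsCoh (kernel (uMap k N f)) := Sga67.CohBasic.isCoh_kernel _ hfree (isCoh_push k N f).1
  have hKvan : ∀ i : ℕ, 1 ≤ i →
      Subsingleton (Coh.HH (CohB1.ProjSpace N k) (Fga.MumReg.tw (kernel (uMap k N f)) m) i) :=
    fun i hi => CMReg.subsingleton_HH hK.1 hreg i hi m (by omega)
  have hSES : (ShortComplex.mk (kernel.ι (uMap k N f)) (uMap k N f) (kernel.condition _)).ShortExact :=
    { exact := ShortComplex.exact_kernel _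
      mono_f := inferInstance
      epi_g := epi_uMap k N f }
  have hadd := Fga.MumReg.h0_add hSES hK.1 m (hKvan 1 le_rfl)
    (S0002.result k _ _ (isCoh_tw N k hfree m) 0)
  have hKfin : Module.Finite k (Coh.HH (CohB1.ProjSpace N k) ((tw N k m).obj (kernel (uMap k N f))) 0) :=
    S0002.result k _ _ (isCoh_tw N k hK m) 0
  refine exists_epi_of_le (k := k) (CMReg.isGloballyGenerated hK.1 (m := m) hreg m le_rfl) hKfin ?_
  change Module.finrank k (Coh.HH (CohB1.ProjSpace N k) (Fga.MumReg.tw (kernel (uMap k N f)) m) 0) ≤ _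
  rw [rk]
  have h1 := hadd
  change Module.finrank k (Coh.HH (CohB1.ProjSpace N k) (Fga.MumReg.tw (FlatMod.freeMod _ 1) m) 0) = _ at h1
  rw [h1]
  exact Nat.le_add_right _ _

variable [Finite k]

theorem finite_homs (a : ℕ) (m : ℤ) : Finite (FlatMod.freeMod (CohB1.ProjSpace N k) a ⟶
    (tw N k m).obj (FlatMod.freeMod (CohB1.ProjSpace N k) 1)) := by
  have hproper : IsProper (CohB1.ProjSpace N k ↘ Spec (CommRingCat.of k)) :=
    VarietyB.EulerBinom.isProper_over k N
  have hLN : IsLocallyNoetherian (CohB1.ProjSpace N k) :=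
    LocallyOfFiniteType.isLocallyNoetherian (CohB1.ProjSpace N k ↘ (Spec (CommRingCat.of k)))
  exact finite_hom_free (k := k) (S0002.result k _ _ (isCoh_tw N k (VarietyB.EulerBinom.isCoh_free k N 1) m) 0) a

end Pres

end Proj

open Groth.Agent.Sga67 in
/-- `w_f`: the twisted ideal of `X` in `O_P`. -/
theorem ker_le_of_w_eq {k : Type u} [Field k] {N : ℕ} {X Z : Scheme.{u}} (f : X ⟶ CohB1.ProjSpace N k)
    [IsClosedImmersion f] (g : Z ⟶ CohB1.ProjSpace N k) [IsClosedImmersion g] (m : ℤ) {a : ℕ}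
    (p : FlatMod.freeMod (CohB1.ProjSpace N k) a ⟶ (tw N k m).obj (kernel (uMap k N f))) [Epi p]
    (q : FlatMod.freeMod (CohB1.ProjSpace N k) a ⟶ (tw N k m).obj (kernel (uMap k N g)))
    (h : p ≫ (tw N k m).map (kernel.ι (uMap k N f)) = q ≫ (tw N k m).map (kernel.ι (uMap k N g))) :
    f.ker ≤ g.ker := by
  refine ker_le_of_tw k N f g m ?_
  rw [← cancel_epi p, comp_zero, Functor.map_comp, ← Category.assoc, h, Category.assoc, ← Functor.map_comp,
    kernel.condition]
  have h0 : (tw N k m).map (0 : kernel (uMap k N g) ⟶ (Scheme.Modules.pushforward g).obj (Coh.structureModule Z)) = 0 :=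
    (PerfB.TensExact.tensorRightMod_map_eq _ _).symm.trans
      (Functor.map_zero (DCoh.tensorRightMod (Twist.twistProjSpace N k m)) _ _)
  rw [h0, comp_zero]

theorem iso_of_ker_eq {k : Type u} [Field k] {N : ℕ} {X Z : Over (Spec (CommRingCat.of k))}
    (f : X.left ⟶ CohB1.ProjSpace N k) [IsClosedImmersion f] (g : Z.left ⟶ CohB1.ProjSpace N k)
    [IsClosedImmersion g] (hf : f ≫ CohB1.ProjSpace.toSpec N k = X.hom)
    (hg : g ≫ CohB1.ProjSpace.toSpec N k = Z.hom) (h : f.ker = g.ker) : Nonempty (X ≅ Z) := by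
  have h1 := IsClosedImmersion.isIso_lift g f h.symm
  refine ⟨(Over.isoMk (asIso (IsClosedImmersion.lift g f h.symm.le)) ?_)⟩
  rw [← hf, ← hg, asIso_hom, ← Category.assoc, IsClosedImmersion.lift_fac]

/-- **Finiteness of closed subschemes of `P^N` with given Hilbert polynomial over a finite field.** -/
theorem finite_closed (k : Type u) [Field k] [Finite k] (N : ℕ) (P : Polynomial ℚ) :
    ∃ (n : ℕ) (Xs : Fin n → Over (Spec (CommRingCat.of k))), ∀ (X : Over (Spec (CommRingCat.of k)))
      (f : X.left ⟶ CohB1.ProjSpace N k), IsClosedImmersion f → f ≫ CohB1.ProjSpace.toSpec N k = X.hom →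
      (∀ t : ℕ, (@Curv2.euler k _ X.left ⟨X.hom⟩
        (CohB1.tensorPow ((Scheme.Modules.pullback f).obj (Twist.twistProjSpace N k 1)) t) : ℚ) = P.eval (t : ℚ)) →
      ∃ i : Fin n, Nonempty (X ≅ Xs i) := by
  obtain ⟨m, hm⟩ := Groth.Agent.S1643.result.{u} N 1 le_rfl P
  have := finite_homs k N (rk k N m) m
  let H := FlatMod.freeMod (CohB1.ProjSpace N k) (rk k N m) ⟶
    (tw N k m).obj (FlatMod.freeMod (CohB1.ProjSpace N k) 1)
  let R : Over (Spec (CommRingCat.of k)) → H → Prop := fun X w =>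
    ∃ (f : X.left ⟶ CohB1.ProjSpace N k) (_ : IsClosedImmersion f), f ≫ CohB1.ProjSpace.toSpec N k = X.hom ∧
      ∃ p : FlatMod.freeMod (CohB1.ProjSpace N k) (rk k N m) ⟶ (tw N k m).obj (kernel (uMap k N f)),
        Epi p ∧ p ≫ (tw N k m).map (kernel.ι (uMap k N f)) = w
  have hR : ∀ X Z w, R X w → R Z w → Nonempty (X ≅ Z) := by
    rintro X Z w ⟨f, hf, hf1, p, hp, hw⟩ ⟨g, hg, hg1, q, hq, hw'⟩
    exact iso_of_ker_eq f g hf1 hg1
      (le_antisymm (ker_le_of_w_eq f g m p q (hw.trans hw'.symm)) (ker_le_of_w_eq g f m q p (hw'.trans hw.symm)))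
  let S : Type u := {w : H // ∃ X, R X w}
  have : Finite S := Subtype.finite
  obtain ⟨n, ⟨e⟩⟩ := Finite.exists_equiv_fin S
  refine ⟨n, fun i => (e.symm i).2.choose, fun X f hf hfk hP => ?_⟩
  letI : X.left.Over (Spec (CommRingCat.of k)) := ⟨X.hom⟩
  have hreg := hm k _ (uMap k N f) (isCoh_push k N f) (epi_uMap k N f) (euler_push_twist k N f hfk P hP)
  obtain ⟨q, hq⟩ := exists_epi_free k N f m hreg
  have hX : R X (q ≫ (tw N k m).map (kernel.ι (uMap k N f))) := ⟨f, hf, hfk, q, hq, rfl⟩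
  let s : S := ⟨_, X, hX⟩
  refine ⟨e s, ?_⟩
  change Nonempty (X ≅ (e.symm (e s)).2.choose)
  rw [e.symm_apply_apply]
  exact hR _ _ _ hX s.2.choose_spec

end K816.FinClosed
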